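import Groth.Prelude.Def_SekSuwa2
import Groth.Agent.Lib.NoriFGS13.Transfer
import Mathlib.AlgebraicGeometry.AffineScheme

/-!
# The congruence group schemes are roots of unity where the parameter is invertible
-/

set_option autoImplicit false
set_option backward.isDefEq.respectTransparency false
set_option backward.isDefEq.respectTransparency.types false

universe u v

open CategoryTheory CategoryTheory.Limits AlgebraicGeometry MonoidalCategory CartesianMonoidalCategory

namespace GrothLib.SekGen13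

variable {R : Type u} [CommRing R] {lam : R} {N : ℕ}

theorem alphaNHom_comp_bijective (h : SekSuwa.DivCond lam N) [NeZero N] (B : Type u) [CommRing B] [Algebra R B]
    (hlam : IsUnit (algebraMap R B lam)) :
    Function.Bijective fun φ : SekSuwa.AK R lam N h →ₐ[R] B =>
      φ.comp (SekSuwa.alphaNHom R lam N h : MonoidAlgebra R (Multiplicative (ZMod N)) →ₐ[R] SekSuwa.AK R lam N h) := by
  constructor
  · intro φ ψ e
    have hu : φ (1 + lam • SekSuwa.AK.t) = ψ (1 + lam • SekSuwa.AK.t) := by
      rw [← SekSuwa.alphaNHom_single_one R lam N h]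
      exact DFunLike.congr_fun e (MonoidAlgebra.single (Multiplicative.ofAdd (1 : ZMod N)) 1)
    have ht : φ SekSuwa.AK.t = ψ SekSuwa.AK.t := by
      simp only [map_add, map_one, map_smul, add_right_inj] at hu
      rw [Algebra.smul_def, Algebra.smul_def] at hu
      exact hlam.mul_left_cancel hu
    have h0 : (SekSuwa.AK.inv : SekSuwa.AK R lam N h) * (1 + lam • SekSuwa.AK.t) = 1 := by
      have h3 := congrArg (SekSuwa.AK.mkHom R lam N h) (SekSuwa.A.inv_mul_u (R := R) (lam := lam))
      rw [map_mul, map_one, SekSuwa.A.u, map_add, map_one, map_smul] at h3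
      exact h3
    refine SekSuwa.AK.algHom_ext ht ?_
    have e1 := congrArg φ h0
    have e2 := congrArg ψ h0
    rw [map_mul, map_one] at e1 e2
    have hψ : IsUnit (ψ (1 + lam • SekSuwa.AK.t)) := IsUnit.of_mul_eq_one_right _ e2
    refine hψ.mul_right_cancel ?_
    rw [e2, ← e1, hu]
  · intro χ
    obtain ⟨z, hz⟩ : ∃ z, χ (MonoidAlgebra.single (Multiplicative.ofAdd (1 : ZMod N)) 1) = z := ⟨_, rfl⟩
    have hpow : ∀ m : ℕ, χ (MonoidAlgebra.single (Multiplicative.ofAdd (m : ZMod N)) 1) = z ^ m := by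
      intro m
      rw [← hz, ← map_pow, MonoidAlgebra.single_pow, one_pow]
      congr 2
      rw [← ofAdd_nsmul, nsmul_one]
    have hzN : z ^ N = 1 := by
      rw [← hpow, ZMod.natCast_self]
      exact map_one χ
    obtain ⟨v, hv⟩ := hlam.exists_left_inv
    let b : B := v * (z - 1)
    have hb : 1 + lam • b = z := by
      rw [Algebra.smul_def, show algebraMap R B lam * b = (v * algebraMap R B lam) * (z - 1) by simp only [b]; ring,
        hv, one_mul, add_sub_cancel]
    have hc : (1 + lam • b) * z ^ (N - 1) = 1 := by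
      rw [hb, ← pow_succ', Nat.sub_add_cancel (NeZero.pos N), hzN]
    have hP : Polynomial.aeval b (SekSuwa.psiPoly lam N h) = 0 := by
      refine (hlam.pow N).mul_left_cancel ?_
      rw [← map_pow, SekSuwa.aeval_psiPoly h b, ← Algebra.smul_def, hb, hzN, sub_self, mul_zero]
    let φ₀ : SekSuwa.A R lam →ₐ[R] B := SekSuwa.A.lift R lam b (z ^ (N - 1)) hc
    have hker : ∀ a ∈ SekSuwa.kerIdeal lam N h, φ₀ a = 0 := by
      intro a ha
      obtain ⟨d, rfl⟩ := Ideal.mem_span_singleton'.mp ha
      rw [map_mul, SekSuwa.kerGen, ← Polynomial.aeval_algHom_apply, SekSuwa.A.lift_t, hP, mul_zero]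
    let φ : SekSuwa.AK R lam N h →ₐ[R] B := Ideal.Quotient.liftₐ (SekSuwa.kerIdeal lam N h) φ₀ hker
    refine ⟨φ, MonoidAlgebra.algHom_ext (fun a => ?_) (Subsingleton.elim _ _)⟩
    obtain ⟨m, hm⟩ : ∃ m : ℕ, a = Multiplicative.ofAdd (m : ZMod N) :=
      ⟨a.toAdd.val, by rw [ZMod.natCast_zmod_val]; rfl⟩
    subst hm
    show φ (SekSuwa.alphaNHom R lam N h (MonoidAlgebra.single (Multiplicative.ofAdd (m : ZMod N)) 1)) = _
    rw [hpow, ← nsmul_one m, ofAdd_nsmul, ← one_pow (M := R) m, ← MonoidAlgebra.single_pow, map_pow,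
      SekSuwa.alphaNHom_single_one, map_pow, map_add, map_one, map_smul]
    rw [show φ SekSuwa.AK.t = b from SekSuwa.A.lift_t b (z ^ (N - 1)) hc, hb]

section Points

variable {B : Type u} [CommRing B] [Algebra R B]

/-- The structure map of global functions. -/
noncomputable def strR (T : Over (Spec (CommRingCat.of R))) : R →+* Γ(T.left, ⊤) :=
  T.hom.appTop.hom.comp (Scheme.ΓSpecIso (CommRingCat.of R)).inv.hom

/-- The ring map defined by a point of an affine scheme. -/
noncomputable def ptRing {T : Over (Spec (CommRingCat.of R))}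
    (w : T ⟶ (Spec (.of B)).asOver (Spec (.of R))) : B →+* Γ(T.left, ⊤) :=
  w.left.appTop.hom.comp (Scheme.ΓSpecIso (CommRingCat.of B)).inv.hom

theorem ptRing_algebraMap {T : Over (Spec (CommRingCat.of R))}
    (w : T ⟶ (Spec (.of B)).asOver (Spec (.of R))) : (ptRing w).comp (algebraMap R B) = strR T := by
  rw [strR, ← Over.w w]
  show _ = (w.left ≫ Spec.map (CommRingCat.ofHom (algebraMap R B))).appTop.hom.comp _
  rw [Scheme.Hom.comp_appTop]
  ext r
  simp only [ptRing, RingHom.comp_apply, CommRingCat.comp_apply]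
  congr 1
  exact (DFunLike.congr_fun (congrArg CommRingCat.Hom.hom
    (Scheme.ΓSpecIso_inv_naturality (CommRingCat.ofHom (algebraMap R B)))) r)

theorem ptRing_injective {T : Over (Spec (CommRingCat.of R))}
    {w w' : T ⟶ (Spec (.of B)).asOver (Spec (.of R))} (e : ptRing w = ptRing w') : w = w' := by
  apply Over.OverMorphism.ext
  haveI : IsAffine ((Spec (CommRingCat.of B)).asOver (Spec (CommRingCat.of R))).left :=
    inferInstanceAs (IsAffine (Spec (CommRingCat.of B)))
  apply ext_of_isAffine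
  ext z
  obtain ⟨y, rfl⟩ : ∃ y, (Scheme.ΓSpecIso (CommRingCat.of B)).inv y = z :=
    ⟨(Scheme.ΓSpecIso (CommRingCat.of B)).hom z, (Iso.hom_inv_id_apply _ z :)⟩
  exact DFunLike.congr_fun e y

theorem exists_ptRing {T : Over (Spec (CommRingCat.of R))} (φ : B →+* Γ(T.left, ⊤))
    (hφ : φ.comp (algebraMap R B) = strR T) :
    ∃ w : T ⟶ (Spec (.of B)).asOver (Spec (.of R)), ptRing w = φ := by
  let l : T.left ⟶ Spec (CommRingCat.of B) := T.left.toSpecΓ ≫ Spec.map (CommRingCat.ofHom φ)
  have hl : l.appTop.hom.comp (Scheme.ΓSpecIso (CommRingCat.of B)).inv.hom = φ := by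
    rw [show l.appTop = (Spec.map (CommRingCat.ofHom φ)).appTop ≫ T.left.toSpecΓ.appTop from
      Scheme.Hom.comp_appTop _ _, ← CommRingCat.hom_comp, ← Category.assoc,
      ← Scheme.ΓSpecIso_inv_naturality, Category.assoc, Scheme.toSpecΓ_appTop]
    erw [Iso.inv_hom_id, Category.comp_id]
    rfl
  have hw : l ≫ Spec.map (CommRingCat.ofHom (algebraMap R B)) = T.hom := by
    apply ext_of_isAffine
    ext z
    obtain ⟨r, rfl⟩ : ∃ r, (Scheme.ΓSpecIso (CommRingCat.of R)).inv r = z :=
      ⟨(Scheme.ΓSpecIso (CommRingCat.of R)).hom z, by simp⟩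
    show _ = strR T r
    rw [← hφ, ← hl, Scheme.Hom.comp_appTop]
    simp only [RingHom.comp_apply, CommRingCat.comp_apply]
    congr 1
    exact (DFunLike.congr_fun (congrArg CommRingCat.Hom.hom
      (Scheme.ΓSpecIso_inv_naturality (CommRingCat.ofHom (algebraMap R B)))) r).symm
  exact ⟨Over.homMk l hw, hl⟩

end Points

theorem ptRing_specHom {B₁ B₂ : Type u} [CommRing B₁] [CommRing B₂] [HopfAlgebra R B₁] [HopfAlgebra R B₂]
    (f : B₁ →ₐc[R] B₂) {T : Over (Spec (CommRingCat.of R))} (w : T ⟶ (Spec (.of B₂)).asOver (Spec (.of R))) :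
    ptRing (w ≫ SekSuwa.specHom f) = (ptRing w).comp (f : B₁ →ₐ[R] B₂).toRingHom := by
  ext z
  simp only [ptRing, RingHom.comp_apply, Over.comp_left, SekSuwa.specHom_left, Scheme.Hom.comp_appTop,
    CommRingCat.comp_apply]
  congr 1
  exact (DFunLike.congr_fun (congrArg CommRingCat.Hom.hom
    (Scheme.ΓSpecIso_inv_naturality (CommRingCat.ofHom (f : B₁ →ₐ[R] B₂).toRingHom))) z).symm

/-- Over a base on which the parameter is invertible the congruence group is the group of roots of unity. -/
theorem isIso_map_alphaN (h : SekSuwa.DivCond lam N) [NeZero N] {Y : Scheme.{u}} (g : Y ⟶ Spec (CommRingCat.of R))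
    (hlam : IsUnit (g.appTop.hom ((Scheme.ΓSpecIso (CommRingCat.of R)).inv.hom lam))) :
    IsIso ((Over.pullback g).map (SekSuwa.alphaN R lam N h)) := by
  have hbij : ∀ T : Over Y, Function.Bijective fun w : (Over.map g).obj T ⟶ SekSuwa.GK R lam N h =>
      w ≫ SekSuwa.alphaN R lam N h := by
    intro T
    letI : Algebra R Γ(((Over.map g).obj T).left, ⊤) := (strR ((Over.map g).obj T)).toAlgebra
    have hu : IsUnit (algebraMap R Γ(((Over.map g).obj T).left, ⊤) lam) := by
      show IsUnit ((T.hom ≫ g).appTop.hom ((Scheme.ΓSpecIso (CommRingCat.of R)).inv.hom lam))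
      rw [Scheme.Hom.comp_appTop]
      exact hlam.map T.hom.appTop.hom
    have hb := alphaNHom_comp_bijective h Γ(((Over.map g).obj T).left, ⊤) hu
    constructor
    · intro w w' e
      have e' := congrArg ptRing e
      simp only [SekSuwa.alphaN, ptRing_specHom] at e'
      have := hb.1 (a₁ := ⟨ptRing w, fun r => DFunLike.congr_fun (ptRing_algebraMap w) r⟩)
        (a₂ := ⟨ptRing w', fun r => DFunLike.congr_fun (ptRing_algebraMap w') r⟩) (AlgHom.coe_ringHom_injective e')
      exact ptRing_injective (congrArg AlgHom.toRingHom this)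
    · intro x
      obtain ⟨φ, hφ⟩ := hb.2 ⟨ptRing x, fun r => DFunLike.congr_fun (ptRing_algebraMap x) r⟩
      obtain ⟨w, hw⟩ := exists_ptRing (T := (Over.map g).obj T) φ.toRingHom (RingHom.ext φ.commutes)
      refine ⟨w, ptRing_injective ?_⟩
      show ptRing (w ≫ SekSuwa.alphaN R lam N h) = _
      rw [SekSuwa.alphaN, ptRing_specHom, hw]
      exact congrArg AlgHom.toRingHom hφ
  obtain ⟨w, hw⟩ := (hbij _).2 (NoriFGS13.toB g (𝟙 (Red.bc g (Red.diag R (ZMod N)))))
  refine ⟨NoriFGS13.ofB g w, ?_, ?_⟩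
  · apply NoriFGS13.toB_injective g
    apply (hbij _).1
    simp only [← NoriFGS13.toB_comp]
    congr 1
    rw [Category.id_comp, Category.assoc, ← NoriFGS13.ofB_comp, show w ≫ _ = _ from hw, NoriFGS13.ofB_toB,
      Category.comp_id]
  · rw [← NoriFGS13.ofB_comp, show w ≫ _ = _ from hw, NoriFGS13.ofB_toB]

end GrothLib.SekGen13
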